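import Groth.Agent.Lib.CartanNhd21.Field
import Groth.Agent.Lib.CurveLocus.GeomFibre
import Groth.Agent.Lib.CartanRel21.Basic

/-!
# Dimension of Cartan subgroups
-/

set_option autoImplicit false
set_option linter.style.haveILetI false
set_option linter.unusedSectionVars false
set_option backward.isDefEq.respectTransparency.types false

universe u

open CategoryTheory Limits MonoidalCategory CartesianMonoidalCategory MonObj AlgebraicGeometry

noncomputable section

namespace Groth.Agent.CartanDim21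

open DiagGL CartanT21

variable {K : Type u} [Field K] {G T C : Over (Spec (CommRingCat.of K))} [GrpObj G] [GrpObj T] [GrpObj C]

/-- The centralizer of a torus is a closed subgroup. -/
theorem isClosedImmersion_of_isCentralizerOf [Smooth G.hom] [IsSeparated G.hom] {i : T ⟶ G} [IsMonHom i]
    (hT : Red.IsTorus T) {c : C ⟶ G} (hC : Red.IsCentralizerOf i c) : IsClosedImmersion c.left := by
  obtain ⟨C₁, _, c₁, hC₁, hci, -⟩ := TorusCentr19.exists_centralizer'
    (MTRigid29.isMT_of_ft (TorPts21.isMultTypeFT_of_isTorus hT)) inferInstance i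
  haveI := hC.2.1
  haveI := hC₁.2.1
  obtain ⟨a, ha⟩ := (hC₁.2.2 C c).2 ((hC.2.2 C c).1 ⟨𝟙 C, Category.id_comp c⟩)
  obtain ⟨b, hb⟩ := (hC.2.2 C₁ c₁).2 ((hC₁.2.2 C₁ c₁).1 ⟨𝟙 C₁, Category.id_comp c₁⟩)
  let e : C ≅ C₁ := ⟨a, b, (cancel_mono c).1 (by rw [Category.assoc, hb, ha, Category.id_comp]),
    (cancel_mono c₁).1 (by rw [Category.assoc, ha, hb, Category.id_comp])⟩
  haveI : IsIso a := Iso.isIso_hom e
  haveI : IsIso a.left := inferInstanceAs (IsIso ((Over.forget _).map a))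
  haveI := hci
  rw [← ha, Over.comp_left]
  infer_instance

variable [IsAlgClosed K]

/-- A torus of a smooth group lies in a maximal torus. -/
theorem exists_maxTorus_ge_disc [Smooth G.hom] [QuasiCompact G.hom] (i : T ⟶ G) [IsMonHom i] [Mono i]
    (hT : Red.IsTorus T) :
    ∃ (T' : Over (Spec (CommRingCat.of K))) (_ : GrpObj T') (i' : T' ⟶ G) (f : T ⟶ T'),
      AGF.IsMaxTorus i' ∧ f ≫ i' = i := by
  obtain ⟨G₀, _, j, hjm, hjo, hjc, hs, hq, hn⟩ := AttrBorel21.exists_component_closed G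
  haveI := hjm
  haveI := hjo
  haveI := hjc
  haveI := hs
  haveI := hq
  haveI := hn
  haveI : Mono j := Over.mono_of_mono_left j
  haveI := (TorPts21.props_of_isTorus hT).2.2.1
  obtain ⟨l, hl⟩ := BorelFix21.exists_lift_component j j.left.isClosedEmbedding.isClosed_range i
  haveI : IsMonHom l := BorelFix21.isMonHom_of_comp j l (by rw [hl]; infer_instance)
  haveI : Mono l := mono_of_mono_fac hl
  obtain ⟨T', _, i₀, f, hi₀, hf⟩ := AttrBorel21.exists_maxTorus_ge_gen hT l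
  haveI := hi₀.1
  haveI := hi₀.2.1
  refine ⟨T', inferInstance, i₀ ≫ j, f, ⟨inferInstance, mono_comp _ _, hi₀.2.2.1, fun T₂ _ m _ _ f₂ hT₂ hf₂ => ?_⟩,
    by rw [← Category.assoc, hf, hl]⟩
  haveI := (TorPts21.props_of_isTorus hT₂).2.2.1
  obtain ⟨m₀, hm₀⟩ := BorelFix21.exists_lift_component j j.left.isClosedEmbedding.isClosed_range m
  haveI : IsMonHom m₀ := BorelFix21.isMonHom_of_comp j m₀ (by rw [hm₀]; infer_instance)
  haveI : Mono m₀ := mono_of_mono_fac hm₀
  exact hi₀.2.2.2 T₂ m₀ f₂ hT₂ ((cancel_mono j).1 (by rw [Category.assoc, hm₀]; exact hf₂))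

/-- A Cartan subgroup is no bigger than the centralizer of a torus. -/
theorem dim_le [Smooth G.hom] [QuasiCompact G.hom] [IsSeparated G.hom] (i : T ⟶ G) [IsMonHom i] [Mono i]
    (hT : Red.IsTorus T) {c : C ⟶ G} (hC : Red.IsCentralizerOf i c)
    {C' : Over (Spec (CommRingCat.of K))} [GrpObj C'] {c' : C' ⟶ G} (hC' : SGA3x.IsCartanOver K c') :
    topologicalKrullDim ↥C'.left ≤ topologicalKrullDim ↥C.left := by
  obtain ⟨hm', hmono', T₁, _, i₁, hT₁, hC₁⟩ := hC'
  haveI := hm'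
  haveI := hT₁.1
  haveI := hC.2.1
  obtain ⟨T₂, _, i₂, f, hT₂, hf⟩ := exists_maxTorus_ge_disc i hT
  obtain ⟨g, ψ, hψ⟩ := MTConj21.exists_conj_maxTorus_disc (TorPts21.isMaxTorus_of_isMaximalTorus hT₁) hT₂
  obtain ⟨m, hm⟩ := (hC.2.2 C' (c' ≫ (conjIso g).hom)).2 fun X x h => by
    have hb : h ≫ i = (toUnit X ≫ g) * ((h ≫ f ≫ ψ.inv) ≫ i₁) * (toUnit X ≫ g)⁻¹ := by
      rw [← comp_conjIso, Category.assoc, comp_conjIso, hψ, ← hf]
      simp
    have hcm := (hC₁.2.2 C' c').1 ⟨𝟙 C', Category.id_comp c'⟩ X x (h ≫ f ≫ ψ.inv)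
    rw [← Category.assoc, comp_conjIso, hb]
    calc (toUnit X ≫ g) * (x ≫ c') * (toUnit X ≫ g)⁻¹ *
          ((toUnit X ≫ g) * ((h ≫ f ≫ ψ.inv) ≫ i₁) * (toUnit X ≫ g)⁻¹)
        = (toUnit X ≫ g) * ((x ≫ c') * ((h ≫ f ≫ ψ.inv) ≫ i₁)) * (toUnit X ≫ g)⁻¹ := by group
      _ = (toUnit X ≫ g) * (((h ≫ f ≫ ψ.inv) ≫ i₁) * (x ≫ c')) * (toUnit X ≫ g)⁻¹ := by rw [hcm]
      _ = _ := by group
  haveI := isClosedImmersion_of_isCentralizerOf hT₁.2.2.1 hC₁
  haveI : IsIso (conjIso g).hom.left := inferInstanceAs (IsIso ((Over.forget _).map (conjIso g).hom))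
  haveI : Mono c.left := Over.mono_left_of_mono c
  haveI : IsClosedImmersion (m.left ≫ c.left) := by rw [← Over.comp_left, hm, Over.comp_left]; infer_instance
  haveI : IsClosedImmersion m.left := IsClosedImmersion.of_comp m.left c.left
  exact m.left.isClosedEmbedding.isInducing.topologicalKrullDim_le

end Groth.Agent.CartanDim21
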